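import Mathlib
import Groth.Prelude.Def_ExtPow2
import Groth.Prelude.Def_Pic
import Groth.Agent.Lib.Helper1.TwForm4
import Groth.Agent.Lib.Helper1.PFrame3

/-!
# A top exterior power of a module with local bases is invertible (helper2)

If `E` has local bases of `n` elements and `L` is an `n`-th exterior power of `E` in the frozen
affine-local sense `ExtPow.IsExtPow`, then `L` is an invertible module.
-/

set_option autoImplicit false
set_option linter.style.haveILetI false
set_option linter.unusedSectionVars false
set_option backward.isDefEq.respectTransparency.types false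
set_option synthInstance.maxHeartbeats 400000
set_option maxHeartbeats 4000000

universe u

open CategoryTheory CategoryTheory.Limits AlgebraicGeometry TopologicalSpace Opposite

namespace Groth.Agent.Helper2.ExtPowInv

section Alg

open Module Set Set.powersetCard

variable {R M : Type*} [CommRing R] [AddCommGroup M] [Module R M]

/-- the unique subset of `Fin n` of cardinality `n` -/
def s₀ (n : ℕ) : powersetCard (Fin n) n :=
  ⟨Finset.univ, by rw [mem_iff, Finset.card_univ, Fintype.card_fin]⟩

instance (n : ℕ) : Unique (powersetCard (Fin n) n) where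
  default := s₀ n
  uniq := fun s => by
    apply Subtype.ext
    have h : s.val.card = n := s.prop
    exact Finset.eq_univ_of_card _ (by rw [h, Fintype.card_fin])

/-- the fixed enumeration of `Fin n` -/
noncomputable def σ (n : ℕ) : Fin n → Fin n := ⇑(ofFinEmbEquiv.symm (s₀ n))

theorem bijective_smul_ιMulti_basis {n : ℕ} (b : Basis (Fin n) R M) :
    Function.Bijective (fun r : R => r • exteriorPower.ιMulti R n (fun j => b (σ n j))) := by
  let B := b.exteriorPower n
  have hB : B (s₀ n) = exteriorPower.ιMulti R n (fun j => b (σ n j)) := by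
    rw [exteriorPower.basis_apply]
    rfl
  rw [← hB]
  constructor
  · intro r r' h
    have := congrArg (B.coord (s₀ n)) h
    simpa using this
  · intro x
    refine ⟨B.repr x (s₀ n), ?_⟩
    have h1 := B.sum_repr x
    rw [Fintype.sum_unique] at h1
    have : (default : powersetCard (Fin n) n) = s₀ n := rfl
    rw [this] at h1
    exact h1

/-- the top exterior power of a free module of rank `n` is free of rank one, generated by the
wedge of a basis -/
theorem bijective_smul_ιMulti {n : ℕ} (v : Fin n → M)
    (hv : Function.Bijective (fun r : Fin n → R => ∑ i, r i • v i)) :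
    Function.Bijective (fun r : R => r • exteriorPower.ιMulti R n (fun j => v (σ n j))) := by
  classical
  have hv' : Function.Bijective (Fintype.linearCombination R v) := by
    have : ⇑(Fintype.linearCombination R v) = fun r : Fin n → R => ∑ i, r i • v i := by
      funext r
      exact Fintype.linearCombination_apply R v r
    rw [this]
    exact hv
  let e : (Fin n → R) ≃ₗ[R] M := LinearEquiv.ofBijective (Fintype.linearCombination R v) hv'
  let b : Basis (Fin n) R M := Basis.ofEquivFun e.symm
  have hb : ∀ i, b i = v i := by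
    intro i
    have h1 := congrFun (Basis.coe_ofEquivFun e.symm) i
    change (Basis.ofEquivFun e.symm) i = v i
    rw [h1]
    change Fintype.linearCombination R v (Pi.single i 1) = v i
    rw [Fintype.linearCombination_apply_single, one_smul]
  have := bijective_smul_ιMulti_basis b
  simpa only [hb] using this

end Alg

section Sheaf

open Groth.Agent.Helper1.QcCech Groth.Agent.Helper1.SubSh Groth.Agent.Helper1.LGen
open Groth.Agent.Helper1.PFrame Groth.Agent.Helper1.TwistSec Groth.Agent.Helper1.TwForm

variable {X : Scheme.{u}}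

theorem exists_affine_le {O : X.Opens} {x : X} (hx : x ∈ O) :
    ∃ V : X.Opens, IsAffineOpen V ∧ x ∈ V ∧ V ≤ O := by
  obtain ⟨_, ⟨V, hV, rfl⟩, hxV, hVO⟩ := X.isBasis_affineOpens.exists_subset_of_mem_open hx O.2
  exact ⟨V, hV, hxV, hVO⟩

/-- a section which is a free generator over the affine opens is a free generator -/
theorem isGen_of_affine (L : X.Modules) (W : X.Opens) (a : Γ(L, W))
    (h : ∀ (V : X.Opens) (_ : IsAffineOpen V) (hV : V ≤ W),
      Function.Bijective (fun r : Γ(X, V) => r • res L hV a)) : IsGen L W a := by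
  have hinj : ∀ (O : X.Opens) (hO : O ≤ W),
      Function.Injective (fun r : Γ(X, O) => r • res L hO a) := by
    intro O hO r r' hrr
    have key : (show Γ(Coh.structureModule X, O) from r) =
        (show Γ(Coh.structureModule X, O) from r') := by
      apply eq_of_locally (Coh.structureModule X)
      intro x hx
      obtain ⟨V, hV, hxV, hVO⟩ := exists_affine_le hx
      refine ⟨V, hVO, hxV, ?_⟩
      have h1 : resR hVO r • res L (hVO.trans hO) a = resR hVO r' • res L (hVO.trans hO) a := by
        have h2 := congrArg (res L hVO) hrr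
        simp only [res_smul, res_res] at h2
        exact h2
      exact (h V hV (hVO.trans hO)).1 h1
    exact key
  intro O hO
  refine ⟨hinj O hO, fun t => ?_⟩
  let ι := {V : X.Opens // IsAffineOpen V ∧ V ≤ O}
  have hex : ∀ V : ι, ∃ r : Γ(X, V.1), r • res L (V.2.2.trans hO) a = res L V.2.2 t :=
    fun V => (h V.1 V.2.1 (V.2.2.trans hO)).2 _
  choose rV hrV using hex
  have hcov : O ≤ ⨆ V : ι, V.1 := by
    intro x hx
    obtain ⟨V, hV, hxV, hVO⟩ := exists_affine_le hx
    exact Opens.mem_iSup.2 ⟨⟨V, hV, hVO⟩, hxV⟩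
  have hcompat : ∀ V V' : ι,
      res (Coh.structureModule X) (inf_le_left : V.1 ⊓ V'.1 ≤ V.1)
        (show Γ(Coh.structureModule X, V.1) from rV V) =
      res (Coh.structureModule X) (inf_le_right : V.1 ⊓ V'.1 ≤ V'.1)
        (show Γ(Coh.structureModule X, V'.1) from rV V') := by
    intro V V'
    have hle : V.1 ⊓ V'.1 ≤ W := inf_le_left.trans (V.2.2.trans hO)
    apply hinj (V.1 ⊓ V'.1) hle
    change resR (inf_le_left : V.1 ⊓ V'.1 ≤ V.1) (rV V) • res L hle a =
      resR (inf_le_right : V.1 ⊓ V'.1 ≤ V'.1) (rV V') • res L hle a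
    have e1 : resR (inf_le_left : V.1 ⊓ V'.1 ≤ V.1) (rV V) • res L hle a =
        res L (inf_le_left.trans V.2.2) t := by
      have := congrArg (res L (inf_le_left : V.1 ⊓ V'.1 ≤ V.1)) (hrV V)
      simp only [res_smul, res_res] at this
      exact this
    have e2 : resR (inf_le_right : V.1 ⊓ V'.1 ≤ V'.1) (rV V') • res L hle a =
        res L (inf_le_left.trans V.2.2) t := by
      have := congrArg (res L (inf_le_right : V.1 ⊓ V'.1 ≤ V'.1)) (hrV V')
      simp only [res_smul, res_res] at this
      exact this
    rw [e1, e2]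
  obtain ⟨r, hr⟩ := glue_of_compatible (Coh.structureModule X) (fun V : ι => V.1) O
    (fun V => V.2.2) hcov (fun V => (show Γ(Coh.structureModule X, V.1) from rV V)) hcompat
  refine ⟨(show Γ(X, O) from r), ?_⟩
  apply eq_of_locally L
  intro x hx
  obtain ⟨V, hV, hxV, hVO⟩ := exists_affine_le hx
  refine ⟨V, hVO, hxV, ?_⟩
  have h3 : resR hVO (show Γ(X, O) from r) = rV ⟨V, hV, hVO⟩ := hr ⟨V, hV, hVO⟩
  change res L hVO ((show Γ(X, O) from r) • res L hO a) = res L hVO t
  rw [res_smul, res_res, h3]
  exact hrV ⟨V, hV, hVO⟩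

/-- **a top exterior power of a module with local bases is invertible** -/
theorem isInvertible_of_isExtPow {n : ℕ} {E L : X.Modules} (hL : ExtPow.IsExtPow n E L)
    (hE : ∀ x : X, ∃ (W : X.Opens) (b : Fin n → Γ(E, W)), x ∈ W ∧ IsBasisOn E W b) :
    PicF.IsInvertible L := by
  obtain ⟨φ, hφ⟩ := hL
  apply isInvertible_of_locGen
  intro x
  obtain ⟨W₀, b₀, hxW₀, hb₀⟩ := hE x
  obtain ⟨W, hW, hxW, hWW₀⟩ := exists_affine_le hxW₀
  let b : Fin n → Γ(E, W) := fun i => res E hWW₀ (b₀ i)
  have hb : IsBasisOn E W b := hb₀.res hWW₀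
  let ℓ : Γ(L, W) := (φ ⟨W, hW⟩).symm
    (exteriorPower.ιMulti Γ(X, W) n (fun j => (show E.val.obj (op W) from b (σ n j))))
  refine ⟨W, ℓ, hxW, isGen_of_affine L W ℓ ?_⟩
  intro V hV hVW
  have h1 : res L hVW ℓ = (φ ⟨V, hV⟩).symm
      (exteriorPower.ιMulti Γ(X, V) n
        (fun j => (show E.val.obj (op V) from res E hVW (b (σ n j))))) :=
    hφ ⟨W, hW⟩ ⟨V, hV⟩ hVW _
  have h2 := bijective_smul_ιMulti (R := Γ(X, V)) (M := E.val.obj (op V))
    (fun i => (show E.val.obj (op V) from res E hVW (b i))) (hb V hVW)
  have h3 : (fun r : Γ(X, V) => r • res L hVW ℓ) =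
      (fun y => (show Γ(L, V) from (φ ⟨V, hV⟩).symm y)) ∘
        (fun r : Γ(X, V) => r • exteriorPower.ιMulti Γ(X, V) n
          (fun j => (show E.val.obj (op V) from res E hVW (b (σ n j))))) := by
    funext r
    rw [h1]
    exact ((φ ⟨V, hV⟩).symm.map_smul r _).symm
  rw [h3]
  exact (φ ⟨V, hV⟩).symm.bijective.comp h2

end Sheaf

end Groth.Agent.Helper2.ExtPowInv
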