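import Mathlib
import Groth.Prelude
import Groth.Agent.Lib.Helper1.ColimCoh1
import Groth.Agent.Lib.Helper1.ColimCoh3
import Groth.Agent.Lib.Helper1.QcSum2
import Groth.Agent.Lib.Helper4.HHFin1
import Groth.Agent.Lib.Helper4.PnE1

/-!
# Dualizing pairs: from coherent to quasi-coherent modules (helper2)

On a quasi-compact quasi-separated scheme, a pair `(ω, tr)` which is dualizing for all quasi-coherent
modules of finite type is dualizing for all quasi-coherent modules.
-/

set_option autoImplicit false
set_option backward.isDefEq.respectTransparency.types false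
set_option synthInstance.maxHeartbeats 400000
set_option maxHeartbeats 4000000
set_option linter.style.haveILetI false
set_option linter.unusedSectionVars false

universe u

namespace Groth.Agent.Helper2.QcohExt

open CategoryTheory CategoryTheory.Limits AlgebraicGeometry TopologicalSpace Opposite
open Groth.Agent.Helper1 Groth.Agent.Lib.Helper4

section Rep

variable {X : Scheme.{u}}

/-- **cohomology classes of a filtered colimit come from a stage** -/
theorem exists_rep [CompactSpace X] [QuasiSeparatedSpace X]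
    {J : Type u} [SmallCategory J] [IsFiltered J] (D : J ⥤ X.Modules) (s : Cocone D)
    (hs : IsColimit s) (r : ℕ) (x : Coh.HH X s.pt r) :
    ∃ (j : J) (y : Coh.HH X (D.obj j) r),
      Sheaf.H.map ((SheafOfModules.toSheaf X.ringCatSheaf).map (s.ι.app j)) r y = x := by
  let T := SheafOfModules.toSheaf X.ringCatSheaf
  let G := (Sheaf.cohomologyPresheafFunctor (Opens.grothendieckTopology X) r).flip.obj
    (op (⊤ : X.Opens))
  have h1 : IsColimit (T.mapCocone s) := isColimitOfPreserves T hs
  have hp : PreservesColimit (D ⋙ T) G :=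
    ColimCoh.preservesColimit_HU (X := X) ⊤ isCompact_univ r J (D ⋙ T)
  have h2 : IsColimit (G.mapCocone (T.mapCocone s)) := (hp.preserves h1).some
  obtain ⟨j, y', hy'⟩ := Concrete.isColimit_exists_rep ((D ⋙ T) ⋙ G) h2
    (CohUtil.HHequivHU s.pt r x)
  refine ⟨j, (CohUtil.HHequivHU (D.obj j) r).symm y', ?_⟩
  apply (CohUtil.HHequivHU s.pt r).injective
  have hn := Groth.Agent.Lib.Helper4.PnE1.HEquiv_natural (Opens.grothendieckTopology X)
    (isTerminalTop (α := X.Opens)) (T.map (s.ι.app j)) r
    ((CohUtil.HHequivHU (D.obj j) r).symm y')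
  refine Eq.trans hn ?_
  refine Eq.trans ?_ hy'
  have h3 : Groth.Agent.Helper3.HTerm.HEquiv (Opens.grothendieckTopology X)
      (isTerminalTop (α := X.Opens)) (T.obj (D.obj j)) r
      ((CohUtil.HHequivHU (D.obj j) r).symm y') = y' :=
    (CohUtil.HHequivHU (D.obj j) r).apply_symm_apply y'
  rw [h3]
  rfl

end Rep

section Filt

variable {X : Scheme.{u}}

/-- a quasi-coherent module on a qcqs scheme is a filtered colimit of quasi-coherent submodules of
finite type -/
theorem exists_coherent_filtered [CompactSpace X] [QuasiSeparatedSpace X] (F : X.Modules)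
    [F.IsQuasicoherent] :
    ∃ (J : Type u) (_ : SmallCategory J) (_ : IsFiltered J) (D : J ⥤ X.Modules)
      (c : D ⟶ (Functor.const J).obj F),
      Nonempty (IsColimit (Cocone.mk F c)) ∧ ∀ j, Coh.IsCoh (D.obj j) := by
  classical
  obtain ⟨A, G, i, hm, hq, hft, hepi⟩ := QcSum.exists_epi_sigma_ft F
  let E : Finset A → X.Modules := fun S => ∐ fun a : S => G a.1
  let d : ∀ S : Finset A, E S ⟶ F := fun S => Sigma.desc (fun a : S => i a.1)
  let D : Finset A → X.Modules := fun S => Abelian.image (d S)
  let m : ∀ S, D S ⟶ F := fun S => Abelian.image.ι (d S)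
  haveI : ∀ S, Mono (m S) := fun S => inferInstanceAs (Mono (Abelian.image.ι (d S)))
  have hfac : ∀ S S' : Finset A, S ≤ S' → ∃ g : D S ⟶ D S', g ≫ m S' = m S := by
    intro S S' hSS'
    let incl : E S ⟶ E S' :=
      Sigma.desc (fun a : S => Sigma.ι (fun a : S' => G a.1) ⟨a.1, hSS' a.2⟩)
    have hincl : incl ≫ d S' = d S := by
      apply Sigma.hom_ext
      intro a
      simp only [incl, d, Sigma.ι_desc_assoc, Sigma.ι_desc]
    have hz : m S ≫ cokernel.π (d S') = 0 := by
      rw [← cancel_epi (Abelian.factorThruImage (d S)), comp_zero, ← Category.assoc]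
      change (Abelian.factorThruImage (d S) ≫ Abelian.image.ι (d S)) ≫ _ = 0
      rw [Abelian.image.fac, ← hincl, Category.assoc, cokernel.condition, comp_zero]
    exact ⟨kernel.lift (cokernel.π (d S')) (m S) hz, kernel.lift_ι _ _ _⟩
  let DF := ColimCoh.functorOfMonos D m hfac
  let s := ColimCoh.coconeOfMonos D m hfac
  have he : Epi (colimit.desc DF s) := by
    let k : ∀ a, G a ⟶ DF.obj {a} := fun a =>
      Sigma.ι (fun x : ({a} : Finset A) => G x.1) ⟨a, Finset.mem_singleton_self a⟩ ≫
        Abelian.factorThruImage (d {a})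
    have hk : Sigma.desc i = Sigma.desc (fun a => k a ≫ colimit.ι DF {a}) ≫ colimit.desc DF s := by
      apply Sigma.hom_ext
      intro a
      rw [Sigma.ι_desc, Sigma.ι_desc_assoc, Category.assoc, colimit.ι_desc]
      change i a = (Sigma.ι (fun x : ({a} : Finset A) => G x.1) ⟨a, Finset.mem_singleton_self a⟩ ≫
        Abelian.factorThruImage (d {a})) ≫ Abelian.image.ι (d {a})
      rw [Category.assoc, Abelian.image.fac]
      simp only [d, Sigma.ι_desc]
    haveI : Epi (Sigma.desc (fun a => k a ≫ colimit.ι DF {a}) ≫ colimit.desc DF s) := by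
      rw [← hk]; exact hepi
    exact epi_of_epi (Sigma.desc (fun a => k a ≫ colimit.ι DF {a})) (colimit.desc DF s)
  haveI := ColimCoh.mono_colimit_desc DF s (fun S => inferInstanceAs (Mono (m S)))
  haveI := he
  haveI : IsIso (colimit.desc DF s) := isIso_of_mono_of_epi _
  haveI : IsIso ((colimit.isColimit DF).desc s) := ‹IsIso (colimit.desc DF s)›
  have hc : IsColimit s := IsColimit.ofPointIso (colimit.isColimit DF)
  refine ⟨Finset A, inferInstance, inferInstance, DF, s.ι, ⟨hc⟩, fun S => ?_⟩
  have hS := QcSum.image_sigma_ft G i hq hft S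
  exact ⟨hS.1, hS.2⟩

end Filt

section Main

variable (A : Type u) [CommRing A] {X : Scheme.{u}} [X.Over (Spec (CommRingCat.of A))]
  [CompactSpace X] [QuasiSeparatedSpace X]

/-- **from coherent to quasi-coherent**: a pair which is dualizing for all quasi-coherent modules
of finite type is dualizing for all quasi-coherent modules -/
theorem bijective_dualityMap_of_coh (r : ℕ) (ω : X.Modules) (tr : Coh.HH X ω r →ₗ[A] A)
    (hcoh : ∀ F : X.Modules, Coh.IsCoh F → Function.Bijective (Canon.dualityMap A X r ω tr F))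
    (F : X.Modules) (hF : Coh.IsQCoh F) : Function.Bijective (Canon.dualityMap A X r ω tr F) := by
  haveI := hF
  obtain ⟨J, _, _, D, c, ⟨hc⟩, hD⟩ := exists_coherent_filtered F
  refine ⟨fun φ₁ φ₂ h => ?_, fun ψ => ?_⟩
  · -- injectivity
    apply hc.hom_ext
    intro j
    apply (hcoh (D.obj j) (hD j)).1
    apply LinearMap.ext
    intro y
    change tr (Canon.HHlin A (c.app j ≫ φ₁) r y) = tr (Canon.HHlin A (c.app j ≫ φ₂) r y)
    rw [HHFin1.HHlin_comp, HHFin1.HHlin_comp]
    exact LinearMap.congr_fun h (Canon.HHlin A (c.app j) r y)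
  · -- surjectivity
    have hex : ∀ j, ∃ φ : D.obj j ⟶ ω, Canon.dualityMap A X r ω tr (D.obj j) φ =
        ψ ∘ₗ Canon.HHlin A (c.app j) r := fun j => (hcoh (D.obj j) (hD j)).2 _
    choose φ hφ using hex
    have hnat : ∀ (j j' : J) (f : j ⟶ j'), D.map f ≫ φ j' = φ j := by
      intro j j' f
      apply (hcoh (D.obj j) (hD j)).1
      rw [hφ j]
      apply LinearMap.ext
      intro y
      change tr (Canon.HHlin A (D.map f ≫ φ j') r y) = ψ (Canon.HHlin A (c.app j) r y)
      rw [HHFin1.HHlin_comp]
      have h1 := LinearMap.congr_fun (hφ j') (Canon.HHlin A (D.map f) r y)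
      change tr (Canon.HHlin A (φ j') r (Canon.HHlin A (D.map f) r y)) =
        ψ (Canon.HHlin A (c.app j') r (Canon.HHlin A (D.map f) r y)) at h1
      rw [h1, ← HHFin1.HHlin_comp]
      have h2 : D.map f ≫ c.app j' = c.app j := (c.naturality f).trans (Category.comp_id _)
      rw [h2]
    have hnat' : ∀ (j j' : J) (f : j ⟶ j'),
        D.map f ≫ φ j' = φ j ≫ ((Functor.const J).obj ω).map f := by
      intro j j' f
      rw [hnat j j' f]
      exact (Category.comp_id _).symm
    let s' : Cocone D := ⟨ω, { app := φ, naturality := hnat' }⟩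
    refine ⟨hc.desc s', ?_⟩
    apply LinearMap.ext
    intro x
    obtain ⟨j, y, hy⟩ := exists_rep D (Cocone.mk F c) hc r x
    have hy' : Canon.HHlin A (c.app j) r y = x := hy
    rw [← hy']
    change tr (Canon.HHlin A (hc.desc s') r (Canon.HHlin A (c.app j) r y)) =
      ψ (Canon.HHlin A (c.app j) r y)
    rw [← HHFin1.HHlin_comp]
    have h3 : c.app j ≫ hc.desc s' = φ j := hc.fac s' j
    rw [h3]
    exact LinearMap.congr_fun (hφ j) y

/-- the dualizing property for quasi-coherent modules of finite type gives a dualizing pair -/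
theorem isRDualOver_of_coh (r : ℕ) (ω : X.Modules) (hω : Coh.IsQCoh ω) (tr : Coh.HH X ω r →ₗ[A] A)
    (hcoh : ∀ F : X.Modules, Coh.IsCoh F → Function.Bijective (Canon.dualityMap A X r ω tr F)) :
    Canon.IsRDualOver A X r ω tr :=
  ⟨hω, fun F hF => bijective_dualityMap_of_coh A r ω tr hcoh F hF⟩

end Main

end Groth.Agent.Helper2.QcohExt
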