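import Mathlib
import Groth.Prelude
import Groth.Agent.Lib.Helper2.Canon.QcohExt
import Groth.Agent.Lib.Helper2.Dual.DualizingCl
import Groth.Agent.Lib.Helper2.HomExt.ProjCodim
import Groth.Agent.Lib.Helper2.HomExt.HomOCoh
import Groth.Agent.Lib.Helper4.ClBridge2
import Groth.Agent.Lib.Helper4.LinBridge1
import Groth.Agent.Lib.Helper1.InvInv2
import Groth.Agent.Lib.Helper1.QcAbel
import Groth.Agent.Lib.Helper1.PushQc
import Groth.Agent.Lib.Helper3.LerayCol2
import Groth.Agent.Lib.Helper5.ProperPush.CohExt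
import Groth.Agent.S0022
import Groth.Agent.Lib.Helper1.VA5
import Groth.Agent.Lib.Helper2.Dual.CMExtVanish

/-!
# Existence of a coherent dualizing pair on a projective scheme over a field (helper2)
-/

set_option autoImplicit false
set_option backward.isDefEq.respectTransparency.types false
set_option synthInstance.maxHeartbeats 400000
set_option maxHeartbeats 4000000
set_option linter.style.haveILetI false
set_option linter.unusedSectionVars false

universe u

namespace Groth.Agent.Helper2.ProjDualizing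

open CategoryTheory CategoryTheory.Limits AlgebraicGeometry
open Groth.Agent.Lib.Helper4 Groth.Agent.Helper2.HomExt Groth.Agent.Helper2.HomExt.ChangeRings
open Groth.Agent.Helper2.CMExtVanish
open scoped ZeroObject

section Gen

variable (A : Type u) [CommRing A] {X : Scheme.{u}} [X.Over (Spec (CommRingCat.of A))]

/-- the dévissage form of the dualizing property is bijectivity of the duality map -/
theorem bijective_of_dual (r : ℕ) (ω : X.Modules) (t : Coh.HH X ω r →ₗ[A] A) (F : X.Modules)
    (h : DuB1.Dual A r ω t F) : Function.Bijective (Canon.dualityMap A X r ω t F) := by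
  refine ⟨fun φ₁ φ₂ h12 => ?_, fun ψ => ?_⟩
  · obtain ⟨φ, -, hu⟩ := h (Canon.dualityMap A X r ω t F φ₁)
    rw [hu φ₁ (fun x => rfl), hu φ₂ (fun x => LinearMap.congr_fun h12 x)]
  · obtain ⟨φ, hφ, -⟩ := h ψ
    exact ⟨φ, LinearMap.ext fun x => (hφ x).symm⟩

end Gen

section Main

variable (k : Type u) [Field k] (n r : ℕ) (X : Scheme.{u}) [X.Over (Spec (CommRingCat.of k))]
  (ι : X ⟶ CohB1.ProjSpace n k) [IsClosedImmersion ι]
  (hι : ι ≫ CohB1.ProjSpace.toSpec n k = X ↘ Spec (CommRingCat.of k))

include hι in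
theorem main (hdim : topologicalKrullDim ↥X ≤ (r : WithBot ℕ∞)) :
    ∃ (ω : X.Modules) (tr : Coh.HH X ω r →ₗ[k] k), Coh.IsCoh ω ∧
      Canon.IsRDualOver k X r ω tr := by
  haveI : IsLocallyNoetherian (CohB1.ProjSpace n k) := SerreFin.instLN n k
  haveI : CompactSpace ↥(CohB1.ProjSpace n k) := Groth.Agent.Helper1.VA5.compactSpace_projSpace n k
  haveI : CompactSpace ↥X := ι.isClosedEmbedding.compactSpace
  haveI : IsLocallyNoetherian X := LocallyOfFiniteType.isLocallyNoetherian ι
  haveI : QuasiSeparatedSpace ↥X := inferInstance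
  by_cases hrn : r ≤ n
  · -- the main case
    haveI : ModSite.HasSheafHom (O := (CohB1.ProjSpace n k).sheaf) (FF ι) :=
      Groth.Agent.Helper3.SHomEx.hasSheafHom _
    haveI : HasInjectiveResolutions (ModSite.Mod (CohB1.ProjSpace n k).sheaf) :=
      Groth.Agent.Helper3.LerayCol.hasInjectiveResolutions (CohB1.ProjSpace n k)
    have hωP : Coh.IsCoh (Twist.twistProjSpace n k (-((n : ℤ) + 1))) := SerreFin.isCoh_twist n k _
    have hr' : topologicalKrullDim ↥X + ((n - r : ℕ) : WithBot ℕ∞) ≤ (n : WithBot ℕ∞) := by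
      refine (add_le_add hdim le_rfl).trans ?_
      have : r + (n - r) = n := by omega
      exact_mod_cast this.le
    have hvan : ∀ q, q < n - r → IsZero ((ModSite.extSh (O := (CohB1.ProjSpace n k).sheaf)
        ((Scheme.Modules.pushforward ι).obj (Coh.structureModule X)) q).obj
          (Twist.twistProjSpace n k (-((n : ℤ) + 1)))) := fun q hq =>
      Groth.Agent.Helper3.ExtReg.isZero_extSh_of_locally_regular _ _
        (Groth.Agent.Helper1.InvInv2.isFinLocFree_of_isInvertible
          (Groth.Agent.Lib.Helper4.ClBridge2.isInvertible_twist n k _)) (n - r)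
        (Groth.Agent.Helper2.HomExt.ProjCodim.locally_regular ι (n - r) hr'
          (Coh.structureModule X)) q hq
    let ω₀ : X.Modules := ((ish ι).rightDerived (n - r)).obj
      (Twist.twistProjSpace n k (-((n : ℤ) + 1)))
    have hω₀e : Nonempty ((Scheme.Modules.pushforward ι).obj ω₀ ≅
        (ModSite.extSh (O := (CohB1.ProjSpace n k).sheaf) (FF ι) (n - r)).obj
          (Twist.twistProjSpace n k (-((n : ℤ) + 1)))) :=
      ⟨pushRightDerivedIshIso ι _ (n - r)⟩
    have hω₀coh : Coh.IsCoh ω₀ := isCoh_rightDerived_ish ι _ hωP (n - r)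
    obtain ⟨t, ht⟩ := Groth.Agent.Helper2.DualizingCl.exists_dualizing k n ι hι (n - r) r
      (by omega) hvan ω₀ hω₀e
    refine ⟨ω₀, t, hω₀coh, ?_⟩
    exact QcohExt.isRDualOver_of_coh k r ω₀ hω₀coh.1 t
      (fun F hF => bijective_of_dual k r ω₀ t F (ht F hF))
  · -- `r > n`: the cohomology in degree `r` vanishes
    have hz : IsZero (0 : X.Modules) := isZero_zero _
    refine ⟨0, 0, Groth.Agent.Lib.Helper5.CohExt.isCoh_of_isZero _ hz,
      Groth.Agent.Helper1.QcAbel.isQuasicoherent_of_isZero hz, fun F hF => ?_⟩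
    haveI := hF
    haveI : ((Scheme.Modules.pushforward ι).obj F).IsQuasicoherent :=
      Groth.Agent.Helper1.PushQc.isQuasicoherent_pushforward (f := ι) (F := F)
    haveI : IsAffineHom ι := inferInstance
    have hsub : Subsingleton (Coh.HH (CohB1.ProjSpace n k) ((Coh.push ι).obj F) r) :=
      Groth.Agent.S0022.result n k _ r (by omega)
    haveI : Subsingleton (Coh.HH X F r) :=
      (LinBridge1.lerayEquiv ι F k hι r).symm.toEquiv.subsingleton
    haveI : Subsingleton (F ⟶ (0 : X.Modules)) := ⟨fun a b => hz.eq_of_tgt a b⟩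
    haveI : Subsingleton (Coh.HH X F r →ₗ[k] k) :=
      ⟨fun a b => LinearMap.ext fun x => by rw [Subsingleton.elim x 0, map_zero, map_zero]⟩
    exact ⟨fun a b _ => Subsingleton.elim a b, fun ψ => ⟨0, Subsingleton.elim _ _⟩⟩

end Main

end Groth.Agent.Helper2.ProjDualizing
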