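import Mathlib
import Groth.Prelude
import Groth.Agent.Lib.Helper4.LinBridge1
import Groth.Agent.Lib.Helper4.HHFin1
import Groth.Agent.Lib.Helper1.PushQc

/-!
# Dualizing pairs along a finite (affine) morphism (helper2)

If `(ω_Z, tr_Z)` is an `r`-dualizing pair on `Z`, `π : X ⟶ Z` is affine and `ω_X` represents
`F ↦ Hom(π_* F, ω_Z)` through `τ : π_* ω_X ⟶ ω_Z`, then `(ω_X, tr_Z ∘ H^r(τ) ∘ leray⁻¹)` is an
`r`-dualizing pair on `X`.
-/

set_option autoImplicit false
set_option backward.isDefEq.respectTransparency.types false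
set_option synthInstance.maxHeartbeats 400000
set_option maxHeartbeats 4000000
set_option linter.style.haveILetI false
set_option linter.unusedSectionVars false

universe u

namespace Groth.Agent.Helper2.CanonFin

open CategoryTheory CategoryTheory.Limits AlgebraicGeometry
open Groth.Agent.Lib.Helper4

variable (A : Type u) [CommRing A] {X Z : Scheme.{u}} [X.Over (Spec (CommRingCat.of A))]
  [Z.Over (Spec (CommRingCat.of A))] (π : X ⟶ Z) [IsAffineHom π]
  (hπ : π ≫ (Z ↘ Spec (CommRingCat.of A)) = X ↘ Spec (CommRingCat.of A))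

/-- naturality of the inverse of the Leray isomorphism of an affine morphism -/
theorem lerayEquiv_symm_natural {F G : X.Modules} [Coh.IsQCoh F] [Coh.IsQCoh G] (φ : F ⟶ G) (r : ℕ)
    (x : Coh.HH X F r) :
    (LinBridge1.lerayEquiv π G A hπ r).symm (Canon.HHlin A φ r x) =
      Canon.HHlin A ((Coh.push π).map φ) r ((LinBridge1.lerayEquiv π F A hπ r).symm x) := by
  apply (LinBridge1.lerayEquiv π G A hπ r).injective
  rw [LinearEquiv.apply_symm_apply]
  have h2 := LinBridge1.lerayAdd_natural π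
    ((SheafOfModules.toSheaf X.ringCatSheaf).map φ) r ((LinBridge1.lerayEquiv π F A hπ r).symm x)
  have h3 : LinBridge1.lerayAdd π F r ((LinBridge1.lerayEquiv π F A hπ r).symm x) = x :=
    (LinBridge1.lerayEquiv π F A hπ r).apply_symm_apply x
  rw [h3] at h2
  exact h2.symm

include hπ in
theorem main (r : ℕ) (ωZ : Z.Modules) (trZ : Coh.HH Z ωZ r →ₗ[A] A)
    (hZ : Canon.IsRDualOver A Z r ωZ trZ)
    (ωX : X.Modules) (hωX : Coh.IsQCoh ωX) (τ : (Coh.push π).obj ωX ⟶ ωZ)
    (huniv : ∀ F : X.Modules, Coh.IsQCoh F →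
      Function.Bijective (fun φ : F ⟶ ωX => (Coh.push π).map φ ≫ τ)) :
    ∃ trX : Coh.HH X ωX r →ₗ[A] A, Canon.IsRDualOver A X r ωX trX := by
  haveI := hωX
  let lω := LinBridge1.lerayEquiv π ωX A hπ r
  refine ⟨trZ ∘ₗ Canon.HHlin A τ r ∘ₗ lω.symm.toLinearMap, hωX, fun F hF => ?_⟩
  haveI := hF
  let lF := LinBridge1.lerayEquiv π F A hπ r
  haveI : ((Scheme.Modules.pushforward π).obj F).IsQuasicoherent :=
    Groth.Agent.Helper1.PushQc.isQuasicoherent_pushforward (f := π) (F := F)
  have hZF := hZ.2 ((Coh.push π).obj F) inferInstance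
  -- the duality map on `X` is the composite of three bijections
  have key : Canon.dualityMap A X r ωX (trZ ∘ₗ Canon.HHlin A τ r ∘ₗ lω.symm.toLinearMap) F =
      (fun ψ : Coh.HH Z ((Coh.push π).obj F) r →ₗ[A] A => ψ ∘ₗ lF.symm.toLinearMap) ∘
        Canon.dualityMap A Z r ωZ trZ ((Coh.push π).obj F) ∘
          (fun φ : F ⟶ ωX => (Coh.push π).map φ ≫ τ) := by
    funext φ
    apply LinearMap.ext
    intro x
    change trZ (Canon.HHlin A τ r (lω.symm (Canon.HHlin A φ r x))) =
      trZ (Canon.HHlin A ((Coh.push π).map φ ≫ τ) r (lF.symm x))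
    rw [lerayEquiv_symm_natural A π hπ φ r x, HHFin1.HHlin_comp]
  rw [key]
  refine Function.Bijective.comp ?_ (hZF.comp (huniv F hF))
  refine ⟨fun ψ₁ ψ₂ h => ?_, fun ψ => ⟨ψ ∘ₗ lF.toLinearMap, ?_⟩⟩
  · apply LinearMap.ext
    intro y
    have := LinearMap.congr_fun h (lF y)
    simpa using this
  · apply LinearMap.ext
    intro y
    simp

end Groth.Agent.Helper2.CanonFin
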