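import Mathlib
import Groth.Prelude.Def_Canon
import Groth.Prelude.Def_RedSub
import Groth.Prelude.Def_ega3
import Groth.Agent.Lib.Helper2.Canon.ExtPowInv
import Groth.Agent.Lib.Helper2.Sch.SmoothOmegaRank
import Groth.Agent.Lib.Lead.OmU13d
import Groth.Agent.Lib.Helper1.HProj2
import Groth.Agent.Lib.Helper1.HH0
import Groth.Agent.Lib.Helper7.GeomConn.H0One
import Groth.Agent.S1628

/-!
# Set-up for the pluricanonical statements (helper2)

For a locally projective morphism `f`, smooth of relative dimension `n` with geometrically connected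
fibres: `f` is proper, the fibres have `h⁰(O) = 1`, and a relative canonical sheaf (an `n`-th exterior
power of the relative differentials) is invertible.
-/

set_option autoImplicit false
set_option linter.style.haveILetI false
set_option linter.unusedSectionVars false
set_option backward.isDefEq.respectTransparency.types false
set_option synthInstance.maxHeartbeats 400000
set_option maxHeartbeats 4000000

universe u

open CategoryTheory CategoryTheory.Limits AlgebraicGeometry TopologicalSpace Opposite

namespace Groth.Agent.Helper2.PluriSetup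

open Groth.Agent.Helper1.QcCech Groth.Agent.Helper1.PFrame Groth.Agent.Helper1.TwForm

/-- a locally projective morphism is proper -/
theorem isProper_of_isLocallyProjective {X S : Scheme.{u}} (f : X ⟶ S)
    (hproj : RedSub.IsLocallyProjective (Over.mk f)) : IsProper f := by
  apply IsZariskiLocalAtTarget.of_forall_exists_morphismRestrict (P := @IsProper)
  intro s
  obtain ⟨V, hsV, n, e, he, hcomp⟩ := hproj s
  refine ⟨V, hsV, ?_⟩
  haveI := he
  haveI : IsProper (CohB1.ProjSpaceOver.toBase n (V : Scheme.{u})) :=
    Groth.Agent.Helper1.HProj.isProper_toBase n _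
  have h1 : IsProper (pullback.snd f V.ι) := by
    have h2 : pullback.snd f V.ι = e ≫ CohB1.ProjSpaceOver.toBase n (V : Scheme.{u}) := hcomp.symm
    rw [h2]
    infer_instance
  rw [← pullbackRestrictIsoRestrict_hom_morphismRestrict] at h1
  exact (MorphismProperty.cancel_left_of_respectsIso @IsProper _ _).1 h1

/-- the sheaf of differentials of a morphism smooth of relative dimension `n` has local bases of
`n` elements -/
theorem exists_isBasisOn_omega {X Y : Scheme.{u}} (f : X ⟶ Y) (n : ℕ)
    [SmoothOfRelativeDimension n f] [QuasiSeparated f] (x : X) :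
    ∃ (W : X.Opens) (b : Fin n → Γ(Omega.sheaf f, W)), x ∈ W ∧ IsBasisOn (Omega.sheaf f) W b := by
  haveI : Smooth f := SmoothOfRelativeDimension.smooth n f
  obtain ⟨U, m, hxU, ⟨e⟩, hm⟩ := Groth.Agent.Helper2.SmoothRelDim.S5019_main f (Omega.sheaf f)
    (OmegaSh.dOmega f) (Groth.Agent.Lead.OmU.isUniversal_dOmega f) x
  rw [Groth.Agent.Helper2.SmoothRelDim.S2768_main n f x] at hm
  have hnm : n = m := by exact_mod_cast hm
  subst hnm
  obtain ⟨b, hb⟩ := exists_isFrame_of_iso (Omega.sheaf f) U e
  exact ⟨U, b, hxU, hb.isBasisOn⟩

/-- a relative canonical sheaf of a smooth morphism is invertible -/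
theorem isInvertible_of_isTopDiff {X Y : Scheme.{u}} (f : X ⟶ Y) (n : ℕ)
    [SmoothOfRelativeDimension n f] [QuasiSeparated f] (ω : X.Modules)
    (hω : Canon.IsTopDiff f n ω) : PicF.IsInvertible ω :=
  Groth.Agent.Helper2.ExtPowInv.isInvertible_of_isExtPow hω (exists_isBasisOn_omega f n)

/-- the pluricanonical sheaves of a smooth morphism are invertible -/
theorem isInvertible_tensorPow_of_isTopDiff {X Y : Scheme.{u}} (f : X ⟶ Y) (n : ℕ)
    [SmoothOfRelativeDimension n f] [QuasiSeparated f] (ω : X.Modules)
    (hω : Canon.IsTopDiff f n ω) (m : ℕ) : PicF.IsInvertible (CohB1.tensorPow ω m) :=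
  isInvertible_tensorPow (isInvertible_of_isTopDiff f n ω hω) m

/-- the fibres of a smooth proper morphism with geometrically connected fibres have `h⁰(O) = 1` -/
theorem finrank_fiber_eq_one {X Y : Scheme.{u}} (f : X ⟶ Y) [IsProper f] [Smooth f]
    [GeometricallyConnected f] (y : Y) :
    Module.finrank (Y.residueField y) Γ(f.fiber y, ⊤) = 1 := by
  letI : (f.fiber y).Over (Spec (CommRingCat.of (Y.residueField y))) := CohIII.fiberOver f y
  haveI : IsProper ((f.fiber y) ↘ Spec (CommRingCat.of (Y.residueField y))) :=
    (MorphismProperty.pullback_snd (P := @IsProper) _ _ inferInstance :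
      IsProper (f.fiberToSpecResidueField y))
  haveI : Smooth ((f.fiber y) ↘ Spec (CommRingCat.of (Y.residueField y))) :=
    (MorphismProperty.pullback_snd (P := @Smooth) _ _ inferInstance :
      Smooth (f.fiberToSpecResidueField y))
  haveI : GeometricallyConnected ((f.fiber y) ↘ Spec (CommRingCat.of (Y.residueField y))) :=
    (inferInstance : GeometricallyConnected (f.fiberToSpecResidueField y))
  haveI : GeometricallyReduced ((f.fiber y) ↘ Spec (CommRingCat.of (Y.residueField y))) :=
    (Groth.Agent.S1628.result (Y.residueField y) (f.fiber y)).1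
  have h := Groth.Agent.Helper7.GeomConn.finrank_HH_zero_eq_one (Y.residueField y) (f.fiber y)
  let E := Groth.Agent.Helper1.HH0.equiv (f.fiber y) (Coh.structureModule (f.fiber y))
  let toG : ↑((Coh.structureModule (f.fiber y)).val.obj (op ⊤)) → Γ(f.fiber y, ⊤) := fun m => m
  let ofG : Γ(f.fiber y, ⊤) → ↑((Coh.structureModule (f.fiber y)).val.obj (op ⊤)) := fun m => m
  let e2 : Coh.HH (f.fiber y) (Coh.structureModule (f.fiber y)) 0 ≃ₗ[Y.residueField y]
      Γ(f.fiber y, ⊤) :=
    { toFun := fun x => toG (E x)
      invFun := fun s => E.symm (ofG s)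
      map_add' := fun x y => by
        show toG (E (x + y)) = toG (E x) + toG (E y)
        rw [map_add]; rfl
      map_smul' := fun a x => by
        show toG (E (a • x)) = algebraMap (Y.residueField y) Γ(f.fiber y, ⊤) a * toG (E x)
        rw [Groth.Agent.Helper1.HH0.equiv_smul_over]
        rfl
      left_inv := fun x => E.left_inv x
      right_inv := fun s => E.right_inv (ofG s) }
  rw [← LinearEquiv.finrank_eq e2]
  exact h

end Groth.Agent.Helper2.PluriSetup
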