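import Mathlib
import Groth.Prelude
import Groth.Agent.Lib.Helper2.Canon.QcohExt
import Groth.Agent.Lib.Helper2.Canon.ProjDualizing
import Groth.Agent.Lib.Helper2.Dual.DualRange
import Groth.Agent.Lib.Helper4.FibDimVan
import Groth.Agent.Lib.Helper4.DuB2
import Groth.Agent.S4402

/-!
# A pair which is dualizing on the twists `O_X(m)` of a projective scheme over a Noetherian ring is
dualizing (helper2)
-/

set_option autoImplicit false
set_option backward.isDefEq.respectTransparency.types false
set_option synthInstance.maxHeartbeats 400000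
set_option maxHeartbeats 4000000
set_option linter.style.haveILetI false
set_option linter.unusedSectionVars false

universe u

namespace Groth.Agent.Helper2.TwistDual

open CategoryTheory CategoryTheory.Limits AlgebraicGeometry
open Groth.Agent.Helper1
open Groth.Agent.Lib.Helper4 Groth.Agent.Lib.Helper4.SerreFin Groth.Agent.Lib.Helper4.DuB1
open Groth.Agent.Helper2.HomExt

section Gen

variable (A : Type u) [CommRing A] {X : Scheme.{u}} [X.Over (Spec (CommRingCat.of A))]

/-- bijectivity of the duality map gives the dévissage form of the dualizing property -/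
theorem dual_of_bijective (r : ℕ) (ω : X.Modules) (t : Coh.HH X ω r →ₗ[A] A) (F : X.Modules)
    (h : Function.Bijective (Canon.dualityMap A X r ω t F)) : DuB1.Dual A r ω t F := by
  intro ψ
  obtain ⟨φ, hφ⟩ := h.2 ψ
  refine ⟨φ, fun x => (LinearMap.congr_fun hφ x).symm, fun φ' hφ' => ?_⟩
  apply h.1
  rw [hφ]
  exact LinearMap.ext fun x => (hφ' x).symm

/-- a module killed, locally on the base, by elements outside every prime is zero -/
theorem subsingleton_of_forall_prime_kill (M : Type u) [AddCommGroup M] [Module A M]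
    (h : ∀ 𝔭 : PrimeSpectrum A, ∃ g : A, g ∉ 𝔭.asIdeal ∧ ∀ m : M, g • m = 0) :
    Subsingleton M := by
  let I : Ideal A :=
    { carrier := {a | ∀ m : M, a • m = 0}
      add_mem' := fun {a b} ha hb m => by rw [add_smul, ha m, hb m, add_zero]
      zero_mem' := fun m => zero_smul _ _
      smul_mem' := fun c {a} ha m => by
        change (c * a) • m = 0
        rw [mul_smul, ha m, smul_zero] }
  have hI : I = ⊤ := by
    by_contra hne
    obtain ⟨𝔪, hmax, hle⟩ := Ideal.exists_le_maximal I hne
    obtain ⟨g, hg, hk⟩ := h ⟨𝔪, hmax.isPrime⟩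
    exact hg (hle hk)
  have h1 : (1 : A) ∈ I := by
    rw [hI]
    trivial
  exact ⟨fun a b => by rw [← one_smul A a, ← one_smul A b, h1 a, h1 b]⟩

end Gen

section Pres

variable (A : Type u) [CommRing A] (n : ℕ) {X : Scheme.{u}} (ι : X ⟶ CohB1.ProjSpace n A)
  [IsClosedImmersion ι]

/-- coherent modules on a closed subscheme of projective space over a ring are quotients of sums
of (pulled back) twists `O_X(-q)`, for all large `q` -/
theorem exists_pres_closed (F : X.Modules) (hpF : Coh.IsCoh ((Scheme.Modules.pushforward ι).obj F)) :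
    ∃ n₀ : ℕ, ∀ q : ℕ, n₀ ≤ q → ∃ (m : ℕ)
      (π : (∐ fun _ : Fin m => (Scheme.Modules.pullback ι).obj
        (Twist.twistProjSpace n A (-(q : ℤ)))) ⟶ F), Epi π := by
  obtain ⟨n₀, h⟩ := Groth.Agent.S4402.result (CohB1.polyGrading n A) (sX n A)
    (sX_mem n A) (irrelevant_eq n A) ((Scheme.Modules.pushforward ι).obj F) hpF.1 hpF.2
  refine ⟨n₀, fun q hq => ?_⟩
  obtain ⟨m, π', hπ'⟩ := h q hq
  let π₀ : (∐ fun _ : Fin m => Twist.twistProjSpace n A (-(q : ℤ))) ⟶
    (Scheme.Modules.pushforward ι).obj F := π'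
  haveI : Epi π₀ := hπ'
  let adj := Scheme.Modules.pullbackPushforwardAdjunction ι
  haveI := (ClImm.fullyFaithfulPushforward ι).full
  haveI := (ClImm.fullyFaithfulPushforward ι).faithful
  haveI : IsIso (adj.counit.app F) := inferInstance
  haveI : PreservesColimitsOfSize.{0, 0} (Scheme.Modules.pullback ι) :=
    adj.leftAdjoint_preservesColimits
  haveI : (Scheme.Modules.pullback ι).PreservesEpimorphisms :=
    Functor.preservesEpimorphisms_of_adjunction adj
  let iso := PreservesCoproduct.iso (Scheme.Modules.pullback ι)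
    (fun _ : Fin m => Twist.twistProjSpace n A (-(q : ℤ)))
  haveI : Epi ((Scheme.Modules.pullback ι).map π₀) := inferInstance
  refine ⟨m, iso.inv ≫ (Scheme.Modules.pullback ι).map π₀ ≫ adj.counit.app F, ?_⟩
  infer_instance

end Pres

section Main

variable (A : Type u) [CommRing A] [IsNoetherianRing A] (n r : ℕ)
  (X : Scheme.{u}) [X.Over (Spec (CommRingCat.of A))]
  (ι : X ⟶ CohB1.ProjSpace n A) [IsClosedImmersion ι]
  (hι : ι ≫ CohB1.ProjSpace.toSpec n A = X ↘ Spec (CommRingCat.of A))
  (hfib : ∀ y : ↥(Spec (CommRingCat.of A)),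
    topologicalKrullDim ↥((X ↘ Spec (CommRingCat.of A)).fiber y) ≤ (r : WithBot ℕ∞))

include hι hfib in
/-- cohomology of coherent modules vanishes above the fibre dimension -/
theorem subsingleton_HH_succ (K : X.Modules) (hK : Coh.IsCoh K) :
    Subsingleton (Coh.HH X K (r + 1)) := by
  haveI : IsProper (X ↘ Spec (CommRingCat.of A)) := by
    rw [← hι]
    infer_instance
  apply subsingleton_of_forall_prime_kill A
  intro 𝔭
  have hd : topologicalKrullDim
      ↥{x : X | (X ↘ Spec (CommRingCat.of A)) x = 𝔭} ≤ (r : WithBot ℕ∞) := by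
    have hE := IsHomeomorph.topologicalKrullDim_eq _
      ((X ↘ Spec (CommRingCat.of A)).fiberHomeo 𝔭).isHomeomorph
    have h1 := hfib 𝔭
    rw [hE] at h1
    exact h1
  exact FibDimVan.core A X K hK 𝔭 r hd (r + 1) (Nat.lt_succ_self r)

include hι hfib in
theorem main (ω : X.Modules) (hω : Coh.IsQCoh ω) (tr : Coh.HH X ω r →ₗ[A] A)
    (h : ∀ m : ℤ, Function.Bijective
      (Canon.dualityMap A X r ω tr ((Scheme.Modules.pullback ι).obj
        (Twist.twistProjSpace n A m)))) :
    Canon.IsRDualOver A X r ω tr := by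
  haveI : IsLocallyNoetherian (CohB1.ProjSpace n A) := SerreFin.instLN n A
  haveI : CompactSpace ↥(CohB1.ProjSpace n A) := VA5.compactSpace_projSpace n A
  haveI : CompactSpace ↥X := ι.isClosedEmbedding.compactSpace
  haveI : IsLocallyNoetherian X := LocallyOfFiniteType.isLocallyNoetherian ι
  haveI : QuasiSeparatedSpace ↥X := inferInstance
  have hB : ∀ q : ℤ, Coh.IsCoh ((Scheme.Modules.pullback ι).obj (Twist.twistProjSpace n A q)) :=
    fun q => InvQc.isCoh_of_isInvertible _
      (PullGen.isInvertible_pullback ι (ClBridge2.isInvertible_twist n A q))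
  have hE : ∀ (q : ℤ) (m : ℕ), Coh.IsCoh (∐ fun _ : Fin m => (Scheme.Modules.pullback ι).obj
      (Twist.twistProjSpace n A q)) := by
    intro q m
    haveI : ((Scheme.Modules.pullback ι).obj (Twist.twistProjSpace n A q)).IsQuasicoherent :=
      (hB q).1
    exact ⟨FinSigma.isQuasicoherent_sigma _, VT.isFT_sigma _ (fun _ => (hB q).2)⟩
  have hdE : ∀ (q : ℤ) (m : ℕ), Dual A r ω tr (∐ fun _ : Fin m => (Scheme.Modules.pullback ι).obj
      (Twist.twistProjSpace n A q)) :=
    fun q m => dual_sigma _ fun _ => dual_of_bijective A r ω tr _ (h q)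
  refine QcohExt.isRDualOver_of_coh A r ω hω tr (fun F hF => ?_)
  apply ProjDualizing.bijective_of_dual
  have hpF : Coh.IsCoh ((Scheme.Modules.pushforward ι).obj F) := FinPush.isCoh_pushforward ι F hF
  obtain ⟨n₀, hn₀⟩ := exists_pres_closed A n ι F hpF
  obtain ⟨m, π, hπ⟩ := hn₀ n₀ le_rfl
  haveI := hπ
  have hK : Coh.IsCoh (kernel π) := FtLocal.isCoh_kernel (hE _ m) hF π
  have hpK : Coh.IsCoh ((Scheme.Modules.pushforward ι).obj (kernel π)) :=
    FinPush.isCoh_pushforward ι _ hK
  obtain ⟨n₁, hn₁⟩ := exists_pres_closed A n ι (kernel π) hpK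
  obtain ⟨m', q, hq⟩ := hn₁ n₁ le_rfl
  haveI := hq
  have hsub : Subsingleton (Coh.HH X (kernel π) (r + 1)) :=
    subsingleton_HH_succ A n r X ι hι hfib (kernel π) hK
  have hlift : kernel.lift π (q ≫ kernel.ι π)
      (by rw [Category.assoc, kernel.condition, comp_zero]) = q := by
    rw [← cancel_mono (kernel.ι π), kernel.lift_ι]
  exact dual_quot π (q ≫ kernel.ι π) (by rw [Category.assoc, kernel.condition, comp_zero])
    (by rw [hlift]; exact hq) (surj_of_subsingleton π hsub) (hdE _ m) (hdE _ m')

end Main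

end Groth.Agent.Helper2.TwistDual
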